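import Mathlib

/-!
Local structure of a group with a generalized quaternion Sylow 2-subgroup of order at least 16.
-/

set_option autoImplicit false
set_option linter.unusedSectionVars false

namespace Cfsg.Agent.CharTheory.BrauerSuzuki

open scoped commutatorElement

variable {G : Type*} [Group G] {S : Sylow 2 G} {n : ℕ} {x y : G}

/-- Generators of a generalized quaternion Sylow 2-subgroup of order `2 ^ (n + 4)`. -/
structure Gen (S : Sylow 2 G) (n : ℕ) (x y : G) : Prop where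
  mem_x : x ∈ (S : Subgroup G)
  mem_y : y ∈ (S : Subgroup G)
  ord : orderOf x = 2 ^ (n + 3)
  conj : y * x * y⁻¹ = x⁻¹
  y_sq : y * y ≠ 1
  cover : ∀ s ∈ (S : Subgroup G), ∃ i : ℤ, s = x ^ i ∨ s = y * x ^ i

/-- Such generators exist. -/
theorem exists_gen (S : Sylow 2 G) (n : ℕ)
    (e : (S : Subgroup G) ≃* QuaternionGroup (2 ^ (n + 2))) : ∃ x y : G, Gen S n x y := by
  haveI : NeZero (2 ^ (n + 2)) := ⟨by positivity⟩
  refine ⟨e.symm (.a 1), e.symm (.xa 0), SetLike.coe_mem _, SetLike.coe_mem _, ?_, ?_, ?_, ?_⟩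
  · rw [Subgroup.orderOf_coe, MulEquiv.orderOf_eq, QuaternionGroup.orderOf_a_one]
    ring
  · rw [← Subgroup.coe_inv, ← Subgroup.coe_inv, ← Subgroup.coe_mul, ← Subgroup.coe_mul, ← map_inv,
      ← map_inv, ← map_mul, ← map_mul]
    congr 2
    rw [mul_inv_eq_iff_eq_mul, eq_inv_mul_iff_mul_eq]
    simp
  · intro h
    rw [← Subgroup.coe_mul, OneMemClass.coe_eq_one, ← map_mul, EmbeddingLike.map_eq_one_iff,
      ← sq] at h
    have h1 := orderOf_dvd_of_pow_eq_one h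
    rw [QuaternionGroup.orderOf_xa] at h1
    omega
  · intro s hs
    have key : ∀ i : ZMod (2 * 2 ^ (n + 2)),
        (e.symm (.a i) : G) = (e.symm (.a 1) : G) ^ ((i.val : ℕ) : ℤ) := fun i => by
      rw [zpow_natCast, ← SubmonoidClass.coe_pow, ← map_pow, QuaternionGroup.a_one_pow,
        ZMod.natCast_zmod_val]
    rcases hg : e ⟨s, hs⟩ with i | i
    · refine ⟨((i.val : ℕ) : ℤ), Or.inl ?_⟩
      rw [← key, ← hg, MulEquiv.symm_apply_apply]
    · refine ⟨((i.val : ℕ) : ℤ), Or.inr ?_⟩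
      rw [← key, ← Subgroup.coe_mul, ← map_mul, QuaternionGroup.xa_mul_a, zero_add, ← hg,
        MulEquiv.symm_apply_apply]

/-- The derived subgroup of the Sylow subgroup. -/
abbrev dgp (x : G) : Subgroup G := Subgroup.zpowers (x ^ 2)

/-- Its centralizer. -/
abbrev cgp (x : G) : Subgroup G := Subgroup.centralizer (dgp x : Set G)

/-- Its normalizer. -/
abbrev ngp (x : G) : Subgroup G := Subgroup.normalizer (dgp x : Set G)

theorem mem_cgp {g : G} : g ∈ cgp x ↔ x ^ 2 * g = g * x ^ 2 := by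
  rw [Subgroup.mem_centralizer_iff]
  refine ⟨fun h => h _ (Subgroup.mem_zpowers _), fun h a ha => ?_⟩
  obtain ⟨k, rfl⟩ := Subgroup.mem_zpowers_iff.1 ha
  exact (Commute.zpow_left h k).eq

theorem cgp_le_ngp : cgp x ≤ ngp x := Subgroup.centralizer_le_normalizer _

theorem conj_mem_cgp {g c : G} (hg : g ∈ ngp x) (hc : c ∈ cgp x) : g * c * g⁻¹ ∈ cgp x := by
  rw [Subgroup.mem_centralizer_iff] at hc ⊢
  intro a ha
  have h1 : g⁻¹ * a * g ∈ dgp x := by
    have := (Subgroup.mem_normalizer_iff.1 ((ngp x).inv_mem hg) a).1 ha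
    simpa using this
  have h2 := congrArg (fun z => g * z * g⁻¹) (hc _ h1)
  simpa [mul_assoc] using h2

variable (h : Gen S n x y)
include h

theorem conjX (i : ℤ) : y * x ^ i * y⁻¹ = x ^ (-i) := by
  rw [← conj_zpow, h.conj, inv_zpow, zpow_neg]

theorem mul_conjX (i : ℤ) : y * x ^ i = x ^ (-i) * y := mul_inv_eq_iff_eq_mul.1 (conjX h i)

theorem inv_mul_conjX (i : ℤ) : y⁻¹ * x ^ i = x ^ (-i) * y⁻¹ := by
  rw [inv_mul_eq_iff_eq_mul, ← mul_assoc, mul_conjX h, neg_neg, mul_inv_cancel_right]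

theorem y_sq_mem : y * y ∈ Subgroup.zpowers x := by
  obtain ⟨i, hi | hi⟩ := h.cover (y * y) (mul_mem h.mem_y h.mem_y)
  · exact Subgroup.mem_zpowers_iff.2 ⟨i, hi.symm⟩
  · rw [mul_left_cancel hi, ← zpow_add]
    exact Subgroup.mem_zpowers_iff.2 ⟨i + i, rfl⟩

theorem commutator_eq : ⁅(S : Subgroup G), (S : Subgroup G)⁆ = dgp x := by
  have hyx : ∀ k : ℤ, y * x ^ k = x ^ (-k) * y := mul_conjX h
  have hyx' : ∀ k : ℤ, y⁻¹ * x ^ k = x ^ (-k) * y⁻¹ := inv_mul_conjX h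
  have hyx2 : ∀ (k : ℤ) (z : G), y * (x ^ k * z) = x ^ (-k) * (y * z) := fun k z => by
    rw [← mul_assoc, hyx, mul_assoc]
  have hyx2' : ∀ (k : ℤ) (z : G), y⁻¹ * (x ^ k * z) = x ^ (-k) * (y⁻¹ * z) := fun k z => by
    rw [← mul_assoc, hyx', mul_assoc]
  have hxx : ∀ (a b : ℤ) (z : G), x ^ a * (x ^ b * z) = x ^ (a + b) * z := fun a b z => by
    rw [← mul_assoc, ← zpow_add]
  refine le_antisymm (Subgroup.commutator_le.2 fun a ha b hb => ?_) ?_
  · obtain ⟨i, hi⟩ := h.cover a ha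
    obtain ⟨j, hj⟩ := h.cover b hb
    rw [Subgroup.mem_zpowers_iff]
    have hk : ∀ k m : ℤ, m = 2 * k → ∃ l : ℤ, (x ^ 2) ^ l = x ^ m := fun k m hm => ⟨k, by
      rw [← zpow_natCast x 2, ← zpow_mul, hm]; norm_num⟩
    rcases hi with rfl | rfl <;> rcases hj with rfl | rfl <;>
      simp only [commutatorElement_def, mul_inv_rev, ← zpow_neg, mul_assoc, hyx2, hyx2', hyx, hyx',
        hxx, mul_inv_cancel_left, inv_mul_cancel_left, mul_inv_cancel, inv_mul_cancel, mul_one,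
        ← zpow_add, neg_neg]
    · exact hk 0 _ (by ring)
    · exact hk i _ (by ring)
    · exact hk (-j) _ (by ring)
    · exact hk (j - i) _ (by ring)
  · rw [Subgroup.zpowers_le]
    have h1 : ⁅x, y⁆ = x ^ 2 := by
      rw [commutatorElement_def, sq]
      have := conjX h (-1)
      rw [zpow_neg_one, neg_neg, zpow_one] at this
      rw [mul_assoc x y x⁻¹, mul_assoc x, this]
    exact h1 ▸ Subgroup.commutator_mem_commutator h.mem_x h.mem_y

theorem card_dgp : Nat.card (dgp x) = 2 ^ (n + 2) := by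
  rw [Nat.card_zpowers, orderOf_pow' x two_ne_zero, h.ord, Nat.gcd_eq_right (dvd_pow_self 2 (by omega)),
    pow_succ, Nat.mul_div_cancel _ two_pos]

theorem zpow_eq_one_iff (i : ℤ) : x ^ i = 1 ↔ ((2 ^ (n + 3) : ℕ) : ℤ) ∣ i := by
  rw [← h.ord, orderOf_dvd_iff_zpow_eq_one]

theorem x_four_ne : x ^ (4 : ℤ) ≠ 1 := by
  intro h4
  rw [zpow_eq_one_iff h] at h4
  have h5 : 2 ^ (n + 3) ∣ 4 := by exact_mod_cast h4
  have h6 := Nat.le_of_dvd (by norm_num) h5
  have h7 : 2 ^ 3 ≤ 2 ^ (n + 3) := Nat.pow_le_pow_right two_pos (by omega)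
  omega

theorem zpow_mem_S (i : ℤ) : x ^ i ∈ (S : Subgroup G) := zpow_mem h.mem_x i

theorem x_mem_cgp : x ∈ cgp x := mem_cgp.2 (pow_mul_comm' x 2)

theorem y_mem_ngp : y ∈ ngp x := by
  rw [Subgroup.mem_normalizer_iff]
  intro a
  constructor
  · rintro ⟨k, rfl⟩
    refine ⟨-k, ?_⟩
    simp only [← zpow_natCast x 2, ← zpow_mul, conjX h]
    ring_nf
  · rintro ⟨k, hk⟩
    refine ⟨-k, ?_⟩
    have h1 : a = y⁻¹ * (y * a * y⁻¹) * y := by group
    simp only at hk ⊢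
    rw [h1, ← hk, ← zpow_natCast x 2, ← zpow_mul, ← zpow_mul, inv_mul_conjX h, inv_mul_cancel_right]
    ring_nf

theorem S_le_ngp : (S : Subgroup G) ≤ ngp x := by
  intro s hs
  obtain ⟨i, rfl | rfl⟩ := h.cover s hs
  · exact cgp_le_ngp (zpow_mem (x_mem_cgp h) i)
  · exact mul_mem (y_mem_ngp h) (cgp_le_ngp (zpow_mem (x_mem_cgp h) i))

theorem y_notMem_cgp : y ∉ cgp x := by
  intro hy
  rw [mem_cgp, ← zpow_natCast x 2] at hy
  have h1 := conjX h ((2 : ℕ) : ℤ)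
  rw [← hy, mul_inv_cancel_right] at h1
  refine x_four_ne h ?_
  rw [show (4 : ℤ) = ((2 : ℕ) : ℤ) + ((2 : ℕ) : ℤ) by norm_num, zpow_add]
  nth_rewrite 1 [h1]
  rw [← zpow_add, neg_add_cancel, zpow_zero]

theorem inf_cgp : (S : Subgroup G) ⊓ cgp x = Subgroup.zpowers x := by
  refine le_antisymm ?_ (le_inf (Subgroup.zpowers_le.2 h.mem_x) (Subgroup.zpowers_le.2 (x_mem_cgp h)))
  rintro s ⟨hs, hsC⟩
  obtain ⟨i, rfl | rfl⟩ := h.cover s hs
  · exact Subgroup.mem_zpowers_iff.2 ⟨i, rfl⟩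
  · exact absurd ((Subgroup.mul_mem_cancel_right _ (zpow_mem (x_mem_cgp h) i)).1 hsC) (y_notMem_cgp h)

theorem involution_mem_S {u : G} (hu : u ∈ (S : Subgroup G)) (ho : orderOf u = 2) :
    u = x ^ ((2 ^ (n + 2) : ℕ) : ℤ) := by
  have hu2 : u * u = 1 := by rw [← sq, ← ho, pow_orderOf_eq_one]
  have hu1 : u ≠ 1 := fun h1 => by rw [h1, orderOf_one] at ho; omega
  obtain ⟨i, rfl | rfl⟩ := h.cover u hu
  · rw [← zpow_add, zpow_eq_one_iff h] at hu2
    obtain ⟨k, hk⟩ := hu2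
    have hk' : i = ((2 ^ (n + 2) : ℕ) : ℤ) * k := by push_cast at hk ⊢; rw [pow_succ] at hk; linarith
    rcases Int.even_or_odd k with ⟨l, rfl⟩ | ⟨l, rfl⟩
    · exact absurd ((zpow_eq_one_iff h i).2 ⟨l, by rw [hk']; push_cast; ring⟩) hu1
    · rw [hk', mul_add, zpow_add, mul_one, show ((2 ^ (n + 2) : ℕ) : ℤ) * (2 * l) =
        ((2 ^ (n + 3) : ℕ) : ℤ) * l by push_cast; ring, (zpow_eq_one_iff h _).2 (dvd_mul_right _ _),
        one_mul]
  · refine absurd ?_ h.y_sq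
    calc y * y = y * (y * x ^ (-i)) * x ^ i := by group
      _ = y * (x ^ i * y) * x ^ i := by rw [mul_conjX h (-i), neg_neg]
      _ = y * x ^ i * (y * x ^ i) := by simp only [mul_assoc]
      _ = 1 := hu2

variable [Finite G]

/-- Every involution is conjugate to the one in the Sylow subgroup. -/
theorem exists_conj_involution {u : G} (ho : orderOf u = 2) :
    ∃ g : G, g * u * g⁻¹ = x ^ ((2 ^ (n + 2) : ℕ) : ℤ) := by
  haveI : Fact (Nat.Prime 2) := ⟨Nat.prime_two⟩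
  have hp : IsPGroup 2 (Subgroup.zpowers u) :=
    IsPGroup.of_card (n := 1) (by rw [Nat.card_zpowers, ho, pow_one])
  obtain ⟨P, hP⟩ := hp.exists_le_sylow
  obtain ⟨g, hg⟩ := MulAction.exists_smul_eq G P S
  refine ⟨g, involution_mem_S h ?_ ?_⟩
  · rw [← hg]
    exact ⟨u, hP (Subgroup.mem_zpowers u), rfl⟩
  · rw [← ho]
    exact orderOf_injective (MulAut.conj g).toMonoidHom (MulAut.conj g).injective u

/-- The normalizer is `C` times `S`. -/
theorem exists_mul_of_mem_ngp {g : G} (hg : g ∈ ngp x) :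
    ∃ c ∈ cgp x, c = g ∨ c * y = g := by
  haveI : Fact (Nat.Prime 2) := ⟨Nat.prime_two⟩
  haveI hn : ((cgp x).subgroupOf (ngp x)).Normal :=
    ⟨fun c hc g => conj_mem_cgp g.2 hc⟩
  have hidx : ((cgp x).subgroupOf (ngp x)).index ∣ 2 ^ (n + 1) := by
    have h1 : (dgp x).normalizerMonoidHom.ker = (cgp x).subgroupOf (ngp x) :=
      Subgroup.normalizerMonoidHom_ker _
    rw [← h1, Subgroup.index_ker]
    have h2 : Nat.card (MulAut (dgp x)) = 2 ^ (n + 1) := by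
      rw [IsCyclic.card_mulAut, card_dgp h, Nat.totient_prime_pow Nat.prime_two (by omega)]
      simp
    exact h2 ▸ Subgroup.card_subgroup_dvd_card _
  have hle : ngp x ≤ cgp x ⊔ (S : Subgroup G) := by
    rw [← Subgroup.relIndex_eq_one]
    have h1 : (cgp x ⊔ (S : Subgroup G)).relIndex (ngp x) ∣ 2 ^ (n + 1) :=
      (Subgroup.relIndex_dvd_of_le_left _ le_sup_left).trans hidx
    have h2 : ¬ 2 ∣ (cgp x ⊔ (S : Subgroup G)).relIndex (ngp x) := fun h3 =>
      S.not_dvd_index (h3.trans ((Subgroup.relIndex_dvd_of_le_left _ le_sup_right).trans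
        (Subgroup.relIndex_dvd_index_of_le (S_le_ngp h))))
    obtain ⟨a, -, ha⟩ := (Nat.dvd_prime_pow Nat.prime_two).1 h1
    rcases a with - | a
    · rw [ha, pow_zero]
    · exact absurd ⟨2 ^ a, by rw [ha, pow_succ, mul_comm]⟩ h2
  have hnorm : (S : Subgroup G) ≤ Subgroup.normalizer (cgp x : Set G) := fun s hs => by
    rw [Subgroup.mem_normalizer_iff]
    refine fun a => ⟨conj_mem_cgp (S_le_ngp h hs), fun ha => ?_⟩
    simpa [mul_assoc] using conj_mem_cgp (inv_mem (S_le_ngp h hs)) ha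
  have hmem : g ∈ (↑(cgp x ⊔ (S : Subgroup G)) : Set G) := hle hg
  rw [Subgroup.coe_mul_of_right_le_normalizer_left _ _ hnorm] at hmem
  obtain ⟨c, hc, s, hs, rfl⟩ := hmem
  obtain ⟨i, rfl | rfl⟩ := h.cover s hs
  · exact ⟨_, mul_mem hc (zpow_mem (x_mem_cgp h) i), Or.inl rfl⟩
  · exact ⟨c * x ^ (-i), mul_mem hc (zpow_mem (x_mem_cgp h) _),
      Or.inr (by rw [mul_assoc, ← mul_conjX h])⟩

/-- A 2-subgroup of the centralizer is cyclic. -/
theorem isCyclic_of_le_cgp {P : Subgroup G} (hP : IsPGroup 2 P) (hle : P ≤ cgp x) : IsCyclic P := by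
  haveI : Fact (Nat.Prime 2) := ⟨Nat.prime_two⟩
  have hP' : IsPGroup 2 (P.subgroupOf (ngp x)) :=
    hP.comap_of_injective (ngp x).subtype Subtype.val_injective
  obtain ⟨Q, hQ⟩ := hP'.exists_le_sylow
  obtain ⟨g, hg⟩ := MulAction.exists_smul_eq (ngp x) Q (S.subtype (S_le_ngp h))
  have hsub : P.map (MulAut.conj (g : G)).toMonoidHom ≤ Subgroup.zpowers x := by
    rw [← inf_cgp h]
    rintro _ ⟨p, hp, rfl⟩
    refine ⟨?_, conj_mem_cgp g.2 (hle hp)⟩
    have h1 : (g * ⟨p, cgp_le_ngp (hle hp)⟩ * g⁻¹ : ngp x) ∈ ((S.subtype (S_le_ngp h) : Sylow 2 (ngp x)) : Subgroup (ngp x)) := by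
      rw [← hg]
      exact ⟨⟨p, cgp_le_ngp (hle hp)⟩, hQ hp, rfl⟩
    exact h1
  haveI : IsCyclic (P.map (MulAut.conj (g : G)).toMonoidHom) := Subgroup.isCyclic_of_le hsub
  exact isCyclic_of_injective
    (P.equivMapOfInjective (MulAut.conj (g : G)).toMonoidHom (MulAut.conj (g : G)).injective).toMonoidHom
    (MulEquiv.injective _)

end Cfsg.Agent.CharTheory.BrauerSuzuki
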