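import Mathlib
import Cfsg.Agent.Lib.CharTheory.BrauerSuzuki.Setup

/-!
The normal 2-complement of the centralizer of the derived subgroup of the Sylow subgroup.
-/

set_option autoImplicit false
set_option linter.unusedSectionVars false

namespace Cfsg.Agent.CharTheory.BrauerSuzuki

/-- Subgroups of a finite cyclic group with the same order are equal. -/
theorem subgroup_eq_of_card {A : Type*} [Group A] [Finite A] [IsCyclic A] (B B' : Subgroup A)
    (hc : Nat.card B = Nat.card B') : B = B' := by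
  classical
  haveI := Fintype.ofFinite A
  have key : ∀ D : Subgroup A, Nat.card D = Nat.card B →
      (Finset.univ.filter fun a => a ∈ D) = Finset.univ.filter fun a : A => a ^ Nat.card B = 1 := by
    intro D hD
    refine Finset.eq_of_subset_of_card_le (fun a ha => ?_) ?_
    · simp only [Finset.mem_filter, Finset.mem_univ, true_and] at ha ⊢
      rw [← hD]
      exact congrArg Subtype.val (pow_card_eq_one' (x := (⟨a, ha⟩ : D)))
    · refine (IsCyclic.card_pow_eq_one_le Nat.card_pos).trans ?_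
      rw [← hD, Nat.card_eq_fintype_card, Fintype.card_subtype]
  ext a
  simpa using congrArg (fun t => a ∈ t) ((key B rfl).trans (key B' hc.symm).symm)

variable {G : Type*} [Group G] [Finite G] {S : Sylow 2 G} {n : ℕ} {x y : G}
variable (h : Gen S n x y)
include h

theorem dgp_le_zpowers {u : G} (hu : u ∈ cgp x) (hd : Nat.card (dgp x) ∣ orderOf u) :
    dgp x ≤ Subgroup.zpowers u := by
  have hc := card_dgp h
  rw [hc] at hd
  obtain ⟨k, hk⟩ := hd
  let v := u ^ k
  have hv : v ∈ cgp x := pow_mem hu k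
  have hk0 : k ≠ 0 := fun h0 => (orderOf_pos u).ne' (by rw [hk, h0, mul_zero])
  have hvo : orderOf v = 2 ^ (n + 2) := by
    rw [orderOf_pow' u hk0, hk, Nat.gcd_eq_right (dvd_mul_left k _),
      Nat.mul_div_cancel _ (Nat.pos_of_ne_zero hk0)]
  let D := dgp x
  let E := Subgroup.zpowers v
  have hcomm : ∀ a ∈ D, ∀ b ∈ E, a * b = b * a := fun a ha b hb => by
    have hb' : b ∈ cgp x := (Subgroup.zpowers_le.2 hv) hb
    exact Subgroup.mem_centralizer_iff.1 hb' a ha
  have hE : IsPGroup 2 E := IsPGroup.of_card (by rw [Nat.card_zpowers, hvo])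
  have hD : IsPGroup 2 D := IsPGroup.of_card hc
  have hnorm : E ≤ Subgroup.normalizer (D : Set G) :=
    (show E ≤ cgp x from Subgroup.zpowers_le.2 hv).trans cgp_le_ngp
  have hP : IsPGroup 2 (E ⊔ D : Subgroup G) := hE.to_sup_of_normal_right' hD hnorm
  have hle : E ⊔ D ≤ cgp x := sup_le (Subgroup.zpowers_le.2 hv) (by
    intro a ha
    rw [Subgroup.mem_centralizer_iff]
    intro b hb
    obtain ⟨i, rfl⟩ := Subgroup.mem_zpowers_iff.1 ha
    obtain ⟨j, rfl⟩ := Subgroup.mem_zpowers_iff.1 (show b ∈ dgp x from hb)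
    rw [← zpow_add, ← zpow_add, add_comm])
  haveI := isCyclic_of_le_cgp h hP hle
  have heq : E.subgroupOf (E ⊔ D) = D.subgroupOf (E ⊔ D) := by
    refine subgroup_eq_of_card _ _ ?_
    rw [Nat.card_congr (Subgroup.subgroupOfEquivOfLe le_sup_left).toEquiv,
      Nat.card_congr (Subgroup.subgroupOfEquivOfLe le_sup_right).toEquiv, Nat.card_zpowers, hvo, hc]
  intro a ha
  have h1 : (⟨a, le_sup_right (a := E) ha⟩ : (E ⊔ D : Subgroup G)) ∈ D.subgroupOf (E ⊔ D) := ha
  rw [← heq] at h1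
  exact (Subgroup.zpowers_le.2 (Subgroup.mem_zpowers_iff.2 ⟨k, zpow_natCast u k⟩)) h1

theorem mem_ngp_of_conj {g u : G} (hu : u ∈ cgp x) (hd : Nat.card (dgp x) ∣ orderOf u)
    (hgu : g * u * g⁻¹ ∈ cgp x) : g ∈ ngp x := by
  have hord : orderOf (g * u * g⁻¹) = orderOf u :=
    orderOf_injective (MulAut.conj g).toMonoidHom (MulAut.conj g).injective u
  have h1 : dgp x ≤ Subgroup.zpowers (g * u * g⁻¹) := dgp_le_zpowers h hgu (hord ▸ hd)
  have h2 := dgp_le_zpowers h hu hd
  let Z := Subgroup.zpowers (g * u * g⁻¹)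
  let D' := (dgp x).map (MulAut.conj g).toMonoidHom
  have h3 : D' ≤ Z := by
    refine (Subgroup.map_mono h2).trans ?_
    rw [MonoidHom.map_zpowers]
    exact le_rfl
  have heq : (dgp x).subgroupOf Z = D'.subgroupOf Z := by
    refine subgroup_eq_of_card _ _ ?_
    rw [Nat.card_congr (Subgroup.subgroupOfEquivOfLe h1).toEquiv,
      Nat.card_congr (Subgroup.subgroupOfEquivOfLe h3).toEquiv,
      ← Nat.card_congr ((dgp x).equivMapOfInjective _ (MulAut.conj g).injective).toEquiv]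
  have heq' : dgp x = D' := by
    rw [← inf_of_le_left h1, ← Subgroup.subgroupOf_map_subtype, heq,
      Subgroup.subgroupOf_map_subtype, inf_of_le_left h3]
  rw [Subgroup.mem_normalizer_iff]
  intro a
  constructor
  · intro ha
    rw [heq']
    exact ⟨a, ha, rfl⟩
  · intro ha
    rw [heq'] at ha
    obtain ⟨b, hb, he⟩ := ha
    have : g * b * g⁻¹ = g * a * g⁻¹ := he
    rwa [← mul_left_cancel (mul_right_cancel this)]

/-- The normal 2-complement of the centralizer, with its decomposition. -/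
theorem exists_complement : ∃ K : Subgroup G, Odd (Nat.card K) ∧ K ≤ cgp x ∧
    ngp x ≤ Subgroup.normalizer (K : Set G) ∧ K ⊓ Subgroup.zpowers x = ⊥ ∧
    (∀ c ∈ cgp x, ∃ k ∈ K, ∃ i : ℤ, c = k * x ^ i) := by
  haveI : Fact (Nat.Prime 2) := ⟨Nat.prime_two⟩
  let C := cgp x
  obtain ⟨P, hP⟩ : ∃ P : Sylow 2 C, (Subgroup.zpowers x).subgroupOf C ≤ (P : Subgroup C) :=
    IsPGroup.exists_le_sylow <| ((IsPGroup.of_card (n := n + 3)
      (by rw [Nat.card_zpowers, h.ord]) : IsPGroup 2 (Subgroup.zpowers x))).comap_of_injective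
        C.subtype Subtype.val_injective
  have hcyc : IsCyclic P := by
    haveI := isCyclic_of_le_cgp h (P.isPGroup'.map C.subtype) (Subgroup.map_subtype_le _)
    exact isCyclic_of_injective
      ((P : Subgroup C).equivMapOfInjective C.subtype Subtype.val_injective).toMonoidHom
      (MulEquiv.injective _)
  have hcard : Nat.card P ≤ 2 ^ (n + 3) := by
    haveI : IsCyclic ((P : Subgroup C).map C.subtype) :=
      isCyclic_of_le_cgp h (P.isPGroup'.map C.subtype) (Subgroup.map_subtype_le _)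
    have hP' : IsPGroup 2 (((P : Subgroup C).map C.subtype).subgroupOf (ngp x)) :=
      (P.isPGroup'.map C.subtype).comap_of_injective (ngp x).subtype Subtype.val_injective
    obtain ⟨Q, hQ⟩ := hP'.exists_le_sylow
    obtain ⟨g, hg⟩ := MulAction.exists_smul_eq (ngp x) Q (S.subtype (S_le_ngp h))
    have hsub : ((P : Subgroup C).map C.subtype).map (MulAut.conj (g : G)).toMonoidHom ≤
        Subgroup.zpowers x := by
      rw [← inf_cgp h]
      rintro _ ⟨_, ⟨p, hp, rfl⟩, rfl⟩
      refine ⟨?_, conj_mem_cgp g.2 p.2⟩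
      have h1 : (g * ⟨p, cgp_le_ngp p.2⟩ * g⁻¹ : ngp x) ∈
          ((S.subtype (S_le_ngp h) : Sylow 2 (ngp x)) : Subgroup (ngp x)) := by
        rw [← hg]
        exact ⟨⟨p, cgp_le_ngp p.2⟩, hQ ⟨p, hp, rfl⟩, rfl⟩
      exact h1
    calc Nat.card P = Nat.card (((P : Subgroup C).map C.subtype).map
          (MulAut.conj (g : G)).toMonoidHom) := by
          rw [← Nat.card_congr (((P : Subgroup C).map C.subtype).equivMapOfInjective _
            (MulAut.conj (g : G)).injective).toEquiv,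
            ← Nat.card_congr ((P : Subgroup C).equivMapOfInjective _ Subtype.val_injective).toEquiv]
      _ ≤ Nat.card (Subgroup.zpowers x) := Subgroup.card_le_of_le hsub
      _ = _ := by rw [Nat.card_zpowers, h.ord]
  have heq : (Subgroup.zpowers x).subgroupOf C = (P : Subgroup C) := by
    refine Subgroup.eq_of_le_of_card_ge hP ?_
    rw [Nat.card_congr (Subgroup.subgroupOfEquivOfLe (Subgroup.zpowers_le.2 (x_mem_cgp h))).toEquiv,
      Nat.card_zpowers, h.ord]
    exact hcard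
  have hmin : (Nat.card C).minFac = 2 := by
    rw [Nat.minFac_eq_two_iff]
    have h1 : orderOf (⟨x, x_mem_cgp h⟩ : C) ∣ Nat.card C := orderOf_dvd_natCard _
    rw [← Subgroup.orderOf_coe, h.ord] at h1
    exact (dvd_pow_self 2 (by omega)).trans h1
  let τ := MonoidHom.transferSylow P (hcyc.normalizer_le_centralizer hmin)
  have hK : τ.ker.IsComplement' (P : Subgroup C) :=
    MonoidHom.ker_transferSylow_isComplement' P _
  have hodd : ¬ 2 ∣ Nat.card τ.ker := MonoidHom.not_dvd_card_ker_transferSylow P _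
  have hchar : ∀ a : C, a ∈ τ.ker ↔ ¬ 2 ∣ orderOf a := by
    intro a
    refine ⟨fun ha h2 => hodd (h2.trans ?_), fun ha => ?_⟩
    · exact Subgroup.orderOf_mk a ha ▸ orderOf_dvd_natCard (⟨a, ha⟩ : τ.ker)
    · rw [MonoidHom.mem_ker, ← orderOf_eq_one_iff]
      obtain ⟨m, -, hm⟩ := (Nat.dvd_prime_pow Nat.prime_two).1
        ((orderOf_dvd_natCard (τ a)).trans (dvd_of_eq ((IsPGroup.iff_card.1 P.isPGroup').choose_spec)))
      rcases m with - | m
      · rw [hm, pow_zero]
      · exact absurd (Dvd.intro_left _ (pow_succ 2 m).symm |>.trans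
          (hm ▸ orderOf_map_dvd τ a)) ha
  refine ⟨τ.ker.map C.subtype, ?_, Subgroup.map_subtype_le _, fun g hg => ?_, ?_, fun c hc => ?_⟩
  · rw [← Nat.card_congr (τ.ker.equivMapOfInjective _ Subtype.val_injective).toEquiv]
    exact Nat.not_even_iff_odd.1 fun he => hodd he.two_dvd
  · have key : ∀ g ∈ ngp x, ∀ a ∈ τ.ker.map C.subtype, g * a * g⁻¹ ∈ τ.ker.map C.subtype := by
      rintro g hg _ ⟨a, ha, rfl⟩
      refine ⟨⟨g * a * g⁻¹, conj_mem_cgp hg a.2⟩, (hchar _).2 ?_, rfl⟩
      rw [← Subgroup.orderOf_coe]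
      show ¬ 2 ∣ orderOf (g * (a : G) * g⁻¹)
      rw [show orderOf (g * (a : G) * g⁻¹) = orderOf (a : G) from
        orderOf_injective (MulAut.conj g).toMonoidHom (MulAut.conj g).injective a, Subgroup.orderOf_coe]
      exact (hchar a).1 ha
    rw [Subgroup.mem_normalizer_iff]
    refine fun a => ⟨key g hg a, fun ha => ?_⟩
    simpa [mul_assoc] using key g⁻¹ (inv_mem hg) _ ha
  · rw [Subgroup.eq_bot_iff_forall]
    rintro _ ⟨⟨a, ha, rfl⟩, hax⟩
    have h1 : a ∈ (P : Subgroup C) := heq ▸ hax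
    have h2 := hK.disjoint.le_bot ⟨ha, h1⟩
    rw [Subgroup.mem_bot] at h2
    rw [h2, map_one]
  · obtain ⟨⟨⟨k, hk⟩, ⟨p, hp⟩⟩, hkp⟩ := hK.2 (⟨c, hc⟩ : C)
    have hp' : (p : G) ∈ Subgroup.zpowers x := by
      have h1 : p ∈ (Subgroup.zpowers x).subgroupOf C := heq.symm ▸ hp
      exact h1
    obtain ⟨i, hi⟩ := Subgroup.mem_zpowers_iff.1 hp'
    exact ⟨_, ⟨k, hk, rfl⟩, i, by rw [hi]; exact (congrArg Subtype.val hkp).symm⟩

theorem xor_mem_cgp {g : G} (hg : g ∈ ngp x) : Xor (g * y ∈ cgp x) (g ∈ cgp x) := by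
  obtain ⟨c, hc, rfl | rfl⟩ := exists_mul_of_mem_ngp h hg
  · exact Or.inr ⟨hc, fun h1 => y_notMem_cgp h ((Subgroup.mul_mem_cancel_left _ hc).1 h1)⟩
  · refine Or.inl ⟨?_, fun h1 => y_notMem_cgp h ((Subgroup.mul_mem_cancel_left _ hc).1 h1)⟩
    rw [mul_assoc]
    exact mul_mem hc ((Subgroup.zpowers_le.2 (x_mem_cgp h)) (y_sq_mem h))

theorem index_cgp : ((cgp x).subgroupOf (ngp x)).index = 2 := by
  rw [Subgroup.index_eq_two_iff]
  exact ⟨⟨y, y_mem_ngp h⟩, fun b => xor_mem_cgp h b.2⟩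

end Cfsg.Agent.CharTheory.BrauerSuzuki
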