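import Mathlib
import Cfsg.Agent.Lib.CharTheory.BrauerSuzuki.Complement
import Cfsg.Agent.Lib.Characters.Induction
import Cfsg.Agent.Lib.Characters.Kernel
import Cfsg.Agent.Lib.CharTheory.IndBasic

/-!
The two exceptional characters of a group with a generalized quaternion Sylow 2-subgroup.
-/

set_option autoImplicit false
set_option linter.unusedSectionVars false

namespace Cfsg.Agent.CharTheory.BrauerSuzuki

open Cfsg.Agent.Characters Cfsg.Agent.CharTheory.IndBasic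

variable {G : Type*} [Group G] [Finite G] {S : Sylow 2 G} {n : ℕ} {x y : G}
variable (h : Gen S n x y)
include h

/-- A linear character of order four of the centralizer. -/
theorem exists_linear : ∃ ν : cgp x →* ℂˣ, (ν ⟨x, x_mem_cgp h⟩ : ℂ) = Complex.I ∧
    (∀ (c : cgp x), (ν ⟨y * c * y⁻¹, conj_mem_cgp (y_mem_ngp h) c.2⟩ : ℂ) =
      ((ν c : ℂ))⁻¹) ∧
    (∀ c : cgp x, (starRingEnd ℂ) (ν c : ℂ) = ((ν c : ℂ))⁻¹) ∧
    (∀ c : cgp x, (ν c : ℂ) ≠ 1 → Nat.card (dgp x) ∣ orderOf (c : G)) := by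
  obtain ⟨K, -, hK, hN, hKx, hcov⟩ := exists_complement h
  choose k hk i hi using fun c : cgp x => hcov c c.2
  have hnorm : ∀ {g : G}, g ∈ ngp x → ∀ a ∈ K, g * a * g⁻¹ ∈ K := fun hg a ha =>
    (Subgroup.mem_normalizer_iff.1 (hN hg) a).1 ha
  have huniq : ∀ (c : cgp x) (a : G) (j : ℤ), a ∈ K → (c : G) = a * x ^ j →
      Complex.I ^ (i c) = Complex.I ^ j := by
    intro c a j ha he
    have h0 : a⁻¹ * k c = x ^ (j - i c) := by
      rw [zpow_sub, eq_mul_inv_iff_mul_eq, mul_assoc, ← hi c, he, inv_mul_cancel_left]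
    have h1 : a⁻¹ * k c ∈ K ⊓ Subgroup.zpowers x :=
      ⟨K.mul_mem (K.inv_mem ha) (hk c), Subgroup.mem_zpowers_iff.2 ⟨_, h0.symm⟩⟩
    rw [hKx, Subgroup.mem_bot, h0, zpow_eq_one_iff h] at h1
    obtain ⟨m, hm⟩ := h1
    have hj : j = i c + 4 * (2 ^ (n + 1) * m) := by
      push_cast at hm
      rw [show n + 3 = (n + 1) + 2 by omega, pow_add] at hm
      norm_num at hm
      linarith
    rw [hj, zpow_add₀ Complex.I_ne_zero, zpow_mul,
      show (Complex.I : ℂ) ^ (4 : ℤ) = 1 by rw [zpow_ofNat]; exact Complex.I_pow_four,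
      one_zpow, mul_one]
  let ν : cgp x →* ℂˣ := MonoidHom.mk' (fun c => Units.mk0 (Complex.I ^ (i c))
      (zpow_ne_zero _ Complex.I_ne_zero)) fun a b => by
    ext
    show Complex.I ^ (i (a * b)) = Complex.I ^ (i a) * Complex.I ^ (i b)
    rw [← zpow_add₀ Complex.I_ne_zero]
    refine huniq _ (k a * (x ^ (i a) * k b * (x ^ (i a))⁻¹)) _
      (mul_mem (hk a) (hnorm (cgp_le_ngp (zpow_mem (x_mem_cgp h) _)) _ (hk b))) ?_
    rw [Subgroup.coe_mul, hi a, hi b]
    group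
  refine ⟨ν, ?_, fun c => ?_, fun c => ?_, fun c hc => ?_⟩
  · show Complex.I ^ (i _) = Complex.I
    rw [huniq _ 1 1 K.one_mem (by simp), zpow_one]
  · show Complex.I ^ (i _) = (Complex.I ^ (i c))⁻¹
    rw [← zpow_neg]
    refine huniq _ (y * k c * y⁻¹) _ (hnorm (y_mem_ngp h) _ (hk c)) ?_
    rw [← conjX h (i c)]
    show y * (c : G) * y⁻¹ = _
    rw [hi c]
    group
  · show (starRingEnd ℂ) (Complex.I ^ (i c)) = (Complex.I ^ (i c))⁻¹
    rw [map_zpow₀, Complex.conj_I, ← Complex.inv_I, inv_zpow]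
  · have h4 : ¬ (4 : ℤ) ∣ i c := fun ⟨m, hm⟩ => hc (by
      show Complex.I ^ (i c) = 1
      rw [hm, zpow_mul, show (Complex.I : ℂ) ^ (4 : ℤ) = 1 by rw [zpow_ofNat]; exact Complex.I_pow_four,
        one_zpow])
    rw [card_dgp h]
    refine dvd_trans ?_ (show orderOf (x ^ (i c)) ∣ orderOf (c : G) from ?_)
    · obtain ⟨a, ha, hao⟩ := (Nat.dvd_prime_pow Nat.prime_two).1
        (show orderOf (x ^ (i c)) ∣ 2 ^ (n + 3) by
          refine orderOf_dvd_of_pow_eq_one ?_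
          rw [← zpow_natCast, ← zpow_mul, zpow_eq_one_iff h]
          exact dvd_mul_left _ _)
      rw [hao]
      refine pow_dvd_pow 2 ?_
      by_contra hlt
      have h2 : (x ^ (i c)) ^ 2 ^ (n + 1) = 1 :=
        orderOf_dvd_iff_pow_eq_one.1 (hao ▸ pow_dvd_pow 2 (by omega))
      rw [← zpow_natCast, ← zpow_mul, zpow_eq_one_iff h] at h2
      refine h4 ?_
      push_cast at h2
      rw [show n + 3 = (n + 1) + 2 by omega, pow_add, mul_comm (i c)] at h2
      norm_num at h2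
      exact (mul_dvd_mul_iff_left (by positivity : (2 : ℤ) ^ (n + 1) ≠ 0)).1 h2
    · let C' := cgp x
      haveI hKn : (K.subgroupOf C').Normal :=
        ⟨fun a ha g => hnorm (cgp_le_ngp g.2) _ ha⟩
      let π := QuotientGroup.mk' (K.subgroupOf C')
      have he : π c = π ⟨x, x_mem_cgp h⟩ ^ (i c) := by
        rw [← map_zpow, QuotientGroup.mk'_eq_mk']
        refine ⟨⟨((c : G))⁻¹ * x ^ (i c), mul_mem (inv_mem c.2) (zpow_mem (x_mem_cgp h) _)⟩, ?_, ?_⟩
        · show ((c : G))⁻¹ * x ^ (i c) ∈ K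
          rw [hi c, mul_inv_rev]
          simpa [mul_assoc] using hnorm (cgp_le_ngp (inv_mem (zpow_mem (x_mem_cgp h) (i c)))) _ (inv_mem (hk c))
        · exact Subtype.ext (by simp)
      have h1 : orderOf (π c) ∣ orderOf (c : G) := by
        rw [Subgroup.orderOf_coe]; exact orderOf_map_dvd π c
      refine dvd_trans ?_ h1
      rw [he, ← map_zpow]
      refine orderOf_dvd_of_pow_eq_one ?_
      have h2 : π ((⟨x, x_mem_cgp h⟩ : C') ^ (i c) ) ^ orderOf (π ((⟨x, x_mem_cgp h⟩ : C') ^ (i c))) = 1 :=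
        pow_orderOf_eq_one _
      rw [← map_pow, QuotientGroup.mk'_apply, QuotientGroup.eq_one_iff] at h2
      have h3 : (x ^ (i c)) ^ orderOf (π ((⟨x, x_mem_cgp h⟩ : C') ^ (i c))) ∈ K ⊓ Subgroup.zpowers x :=
        ⟨by simpa [Subgroup.mem_subgroupOf] using h2,
          pow_mem (Subgroup.mem_zpowers_iff.2 ⟨i c, rfl⟩) _⟩
      rwa [hKx, Subgroup.mem_bot] at h3

variable [Fintype G]

/-- The exceptional virtual character and its decomposition. -/
theorem exists_exceptional : ∃ Φ χ₁ χ₂ : G → ℂ, Cfsg.IsIrrCharacter G χ₁ ∧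
    Cfsg.IsIrrCharacter G χ₂ ∧ χ₁ ≠ (fun _ => 1) ∧ χ₂ ≠ (fun _ => 1) ∧ χ₁ 1 = χ₂ 1 + 1 ∧
    (∀ g, Φ g = 1 - χ₁ g + χ₂ g) ∧ Φ (x ^ 2) = 4 ∧
    (∀ g, Φ g ≠ 0 → ∃ a : G, a⁻¹ * g * a ∈ cgp x ∧ Nat.card (dgp x) ∣ orderOf (a⁻¹ * g * a)) := by
  classical
  haveI := Fintype.ofFinite (cgp x)
  obtain ⟨ν, hνx, hνy, hνc, hνo⟩ := exists_linear h
  let one : cgp x → ℂ := fun _ => 1
  let νf : cgp x → ℂ := fun c => (ν c : ℂ)
  let νb : cgp x → ℂ := fun c => ((ν⁻¹ : cgp x →* ℂˣ) c : ℂ)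
  let β : cgp x → ℂ := one - νf
  let Φ := Cfsg.indFun (cgp x) β
  have hgen : Cfsg.IsGeneralizedCharacter G Φ :=
    isGen_indFun _ (isGen_sub (isGen_of_isCharacter isCharacter_one)
      (isGen_of_isCharacter (isCharacter_linear ν)))
  have hβ0 : ∀ g, Cfsg.extendByZero (cgp x) β g ≠ 0 →
      ∃ hg : g ∈ cgp x, β ⟨g, hg⟩ ≠ 0 ∧ Nat.card (dgp x) ∣ orderOf g := by
    intro g hg
    by_cases hgC : g ∈ cgp x
    · rw [extendByZero_of_mem _ _ hgC] at hg
      refine ⟨hgC, hg, hνo ⟨g, hgC⟩ fun he => hg ?_⟩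
      show (1 : ℂ) - (ν ⟨g, hgC⟩ : ℂ) = 0
      rw [he, sub_self]
    · exact absurd (extendByZero_of_notMem _ _ hgC) hg
  have hsupp : ∀ g, Φ g ≠ 0 →
      ∃ a : G, a⁻¹ * g * a ∈ cgp x ∧ Nat.card (dgp x) ∣ orderOf (a⁻¹ * g * a) := by
    intro g hg
    obtain ⟨a, -, ha⟩ := Finset.exists_ne_zero_of_sum_ne_zero (right_ne_zero_of_mul hg)
    obtain ⟨h1, -, h2⟩ := hβ0 _ ha
    exact ⟨a, h1, h2⟩
  have hres : (fun c : cgp x => Φ c) = (2 : ℂ) • one - νf - νb := by
    funext c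
    have hterm : ∀ a : G, Cfsg.extendByZero (cgp x) β (a⁻¹ * c * a) =
        (if a ∈ cgp x then 1 - (ν c : ℂ) else 0) +
          (if a * y ∈ cgp x then 1 - ((ν c : ℂ))⁻¹ else 0) := by
      intro a
      by_cases ha : a ∈ cgp x
      · have hay : a * y ∉ cgp x := fun h1 =>
          y_notMem_cgp h ((Subgroup.mul_mem_cancel_left _ ha).1 h1)
        rw [if_pos ha, if_neg hay, add_zero,
          extendByZero_of_mem _ _ (mul_mem (mul_mem (inv_mem ha) c.2) ha)]
        show (1 : ℂ) - (ν ⟨a⁻¹ * c * a, _⟩ : ℂ) = _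
        rw [show (⟨a⁻¹ * c * a, mul_mem (mul_mem (inv_mem ha) c.2) ha⟩ : cgp x) =
          (⟨a, ha⟩ : cgp x)⁻¹ * c * ⟨a, ha⟩ from rfl, map_mul, map_mul, map_inv, mul_right_comm,
          inv_mul_cancel, one_mul]
      rw [if_neg ha, zero_add]
      by_cases hay : a * y ∈ cgp x
      · let b : cgp x := (⟨a * y, hay⟩ : cgp x)⁻¹ * c * ⟨a * y, hay⟩
        have he : a⁻¹ * c * a = y * (b : G) * y⁻¹ := by
          show a⁻¹ * c * a = y * ((a * y)⁻¹ * c * (a * y)) * y⁻¹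
          group
        rw [if_pos hay, he, extendByZero_of_mem _ _ (conj_mem_cgp (y_mem_ngp h) b.2)]
        show (1 : ℂ) - (ν ⟨y * b * y⁻¹, _⟩ : ℂ) = _
        rw [hνy b]
        simp only [b, map_mul, map_inv, Units.val_mul, Units.val_inv_eq_inv_val]
        field_simp
      · rw [if_neg hay]
        by_contra hne
        obtain ⟨h1, -, h2⟩ := hβ0 _ hne
        have haN : a ∈ ngp x := mem_ngp_of_conj h h1 h2 (by simpa [mul_assoc] using c.2)
        rcases xor_mem_cgp h haN with h3 | h3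
        · exact hay h3.1
        · exact ha h3.1
    have hcount : ∀ z : ℂ, ∑ a : G, (if a ∈ cgp x then z else 0) = (Nat.card (cgp x) : ℂ) * z := by
      intro z
      rw [← Finset.sum_filter, Finset.sum_const, nsmul_eq_mul]
      congr 2
      rw [Nat.card_eq_fintype_card, Fintype.card_subtype]
    show (Nat.card (cgp x) : ℂ)⁻¹ * ∑ a : G, Cfsg.extendByZero (cgp x) β (a⁻¹ * c * a) = _
    rw [Finset.sum_congr rfl fun a _ => hterm a, Finset.sum_add_distrib, hcount,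
      Fintype.sum_equiv (Equiv.mulRight y) (fun a => if a * y ∈ cgp x then 1 - ((ν c : ℂ))⁻¹ else 0)
        (fun b => if b ∈ cgp x then 1 - ((ν c : ℂ))⁻¹ else 0) (fun a => rfl), hcount, ← mul_add,
      inv_mul_cancel_left₀ (Nat.cast_ne_zero.2 Nat.card_pos.ne')]
    simp only [one, νf, νb, Pi.sub_apply, Pi.smul_apply, smul_eq_mul, MonoidHom.inv_apply,
      Units.val_inv_eq_inv_val]
    ring
  -- inner products
  have i1 : Cfsg.IsIrrCharacter (cgp x) one := isIrrCharacter_one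
  have iν : Cfsg.IsIrrCharacter (cgp x) νf := isIrrCharacter_linear ν
  have iνb : Cfsg.IsIrrCharacter (cgp x) νb := isIrrCharacter_linear ν⁻¹
  have hx0 : ∀ {f g : cgp x → ℂ}, f ⟨x, x_mem_cgp h⟩ ≠ g ⟨x, x_mem_cgp h⟩ → f ≠ g :=
    fun hne he => hne (congrFun he _)
  have e1 : one ⟨x, x_mem_cgp h⟩ = 1 := rfl
  have e2 : νf ⟨x, x_mem_cgp h⟩ = Complex.I := hνx
  have e3 : νb ⟨x, x_mem_cgp h⟩ = -Complex.I := by
    show ((ν⁻¹ : cgp x →* ℂˣ) ⟨x, x_mem_cgp h⟩ : ℂ) = _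
    rw [MonoidHom.inv_apply, Units.val_inv_eq_inv_val, hνx, Complex.inv_I]
  have n12 : one ≠ νf := hx0 (by rw [e1, e2]; intro he; simpa using congrArg Complex.im he)
  have n13 : one ≠ νb := hx0 (by rw [e1, e3]; intro he; simpa using congrArg Complex.im he)
  have n23 : νf ≠ νb := hx0 (by
    rw [e2, e3]
    intro he
    have := congrArg Complex.im he
    norm_num at this)
  have hΦ3 : Cfsg.classInner Φ Φ = 3 := by
    rw [frobenius_reciprocity _ _ (isGen_isClassFunction hgen), hres]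
    simp only [β, classInner_sub_left, classInner_sub_right, classInner_smul_right,
      classInner_isIrr_self i1, classInner_isIrr_self iν, classInner_isIrr_ne i1 iν n12,
      classInner_isIrr_ne i1 iνb n13, classInner_isIrr_ne iν i1 n12.symm,
      classInner_isIrr_ne iν iνb n23, map_ofNat]
    norm_num
  let pr : Cfsg.IrrCharacter G := ⟨fun _ => 1, isIrrCharacter_one⟩
  have hΦ1 : Cfsg.classInner Φ (pr : G → ℂ) = 1 := by
    rw [frobenius_reciprocity _ _ (char_isClassFunction (irr_isCharacter pr))]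
    show Cfsg.classInner β one = 1
    simp only [β, classInner_sub_left, classInner_isIrr_self i1,
      classInner_isIrr_ne iν i1 n12.symm, sub_zero]
  have hΦone : Φ 1 = 0 := by
    show Cfsg.indFun (cgp x) β 1 = 0
    rw [indFun_one]
    simp [β, one, νf]
  -- decomposition
  haveI := Fintype.ofFinite (Cfsg.IrrCharacter G)
  choose z hz using fun ψ : Cfsg.IrrCharacter G =>
    classInner_gen_int hgen (isGen_of_isCharacter (irr_isCharacter ψ))
  have hsum : ∑ ψ, z ψ * z ψ = 3 := by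
    have := classInner_eq_sum Φ (isGen_isClassFunction hgen)
    simp only [fun ψ : Cfsg.IrrCharacter G => classInner_conj_symm Φ (ψ : G → ℂ), hz,
      map_intCast, hΦ3] at this
    exact_mod_cast this.symm
  have hzpr : z pr = 1 := by exact_mod_cast (hz pr).symm.trans hΦ1
  let T := (Finset.univ.erase pr).filter fun ψ => z ψ ≠ 0
  have hT2 : ∑ ψ ∈ T, z ψ * z ψ = 2 := by
    have h1 := Finset.sum_erase_add Finset.univ (fun ψ => z ψ * z ψ) (Finset.mem_univ pr)
    rw [hsum, hzpr] at h1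
    show ∑ ψ ∈ (Finset.univ.erase pr).filter (fun ψ => z ψ ≠ 0), z ψ * z ψ = 2
    rw [Finset.sum_filter_of_ne (p := fun ψ => z ψ ≠ 0) (fun ψ _ hne h0 => hne (by rw [h0, zero_mul]))]
    linarith
  have hge : ∀ ψ ∈ T, 1 ≤ z ψ * z ψ := fun ψ hψ =>
    mul_self_pos.2 (Finset.mem_filter.1 hψ).2
  have hcard : T.card = 2 := by
    have hle : (T.card : ℤ) ≤ 2 := by
      have h1 := Finset.card_nsmul_le_sum T _ 1 hge
      rwa [hT2, nsmul_eq_mul, mul_one] at h1
    have hne : T.card ≠ 0 := fun h0 => by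
      rw [Finset.card_eq_zero.1 h0, Finset.sum_empty] at hT2
      omega
    rcases Nat.lt_or_ge T.card 2 with h2 | h2
    · obtain ⟨ψ, hψ⟩ := Finset.card_eq_one.1 (show T.card = 1 by omega)
      rw [hψ, Finset.sum_singleton] at hT2
      rcases le_or_gt (z ψ * z ψ) 1 with h3 | h3
      · omega
      · have hb1 : z ψ ≤ 1 ∧ -1 ≤ z ψ := by constructor <;> nlinarith
        obtain ⟨hb, hb'⟩ := hb1
        interval_cases (z ψ) <;> omega
    · omega
  obtain ⟨p, q, hpq, hTpq⟩ := Finset.card_eq_two.1 hcard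
  have hpT : p ∈ T := by simp [hTpq]
  have hqT : q ∈ T := by simp [hTpq]
  rw [hTpq, Finset.sum_pair hpq] at hT2
  have hp1 : z p * z p = 1 := by nlinarith [hge p hpT, hge q hqT]
  have hq1 : z q * z q = 1 := by nlinarith [hge p hpT, hge q hqT]
  have hexp : ∀ g, Φ g = 1 + (z p : ℂ) * (p : G → ℂ) g + (z q : ℂ) * (q : G → ℂ) g := by
    intro g
    have h1 := congrFun (classFun_eq_sum (isGen_isClassFunction hgen)) g
    simp only [Finset.sum_apply, Pi.smul_apply, smul_eq_mul, hz] at h1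
    rw [h1, ← Finset.sum_erase_add _ _ (Finset.mem_univ pr), hzpr, Int.cast_one, one_mul,
      add_comm]
    rw [← Finset.sum_filter_of_ne (p := fun ψ => z ψ ≠ 0) (fun ψ _ hne h0 => hne (by simp [h0]))]
    show (1 : ℂ) + ∑ ψ ∈ T, _ = _
    rw [hTpq, Finset.sum_pair hpq, add_assoc]
  obtain ⟨dp, hdp⟩ := char_one_nat (irr_isCharacter p)
  obtain ⟨dq, hdq⟩ := char_one_nat (irr_isCharacter q)
  have hdp0 : dp ≠ 0 := fun h0 => irr_one_ne_zero p.2 (by rw [hdp, h0, Nat.cast_zero])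
  have hdq0 : dq ≠ 0 := fun h0 => irr_one_ne_zero q.2 (by rw [hdq, h0, Nat.cast_zero])
  have hdeg : 1 + z p * (dp : ℤ) + z q * (dq : ℤ) = 0 := by
    have h1 := hexp 1
    rw [hΦone, hdp, hdq] at h1
    exact_mod_cast h1.symm
  have hne1 : ∀ ψ ∈ T, (ψ : G → ℂ) ≠ fun _ => 1 := fun ψ hψ he =>
    (Finset.mem_erase.1 (Finset.mem_filter.1 hψ).1).1 (Subtype.ext he)
  have hx2 : Φ (x ^ 2) = 4 := by
    have h1 := congrFun hres ((⟨x, x_mem_cgp h⟩ : cgp x) ^ 2)
    simp only [Pi.sub_apply, Pi.smul_apply, smul_eq_mul, one, νf, νb, map_pow,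
      MonoidHom.inv_apply, inv_pow, Units.val_inv_eq_inv_val, Units.val_pow_eq_pow_val, hνx,
      Complex.I_sq, SubmonoidClass.coe_pow] at h1
    rw [h1]
    norm_num
  rcases mul_self_eq_one_iff.1 hp1 with hp' | hp' <;> rcases mul_self_eq_one_iff.1 hq1 with hq' | hq' <;>
    rw [hp', hq'] at hdeg
  · omega
  · refine ⟨Φ, q, p, q.2, p.2, hne1 q hqT, hne1 p hpT, ?_, fun g => ?_, hx2, hsupp⟩
    · rw [hdp, hdq]
      exact_mod_cast (by omega : dq = dp + 1)
    · rw [hexp g, hp', hq']; push_cast; ring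
  · refine ⟨Φ, p, q, p.2, q.2, hne1 p hpT, hne1 q hqT, ?_, fun g => ?_, hx2, hsupp⟩
    · rw [hdp, hdq]
      exact_mod_cast (by omega : dp = dq + 1)
    · rw [hexp g, hp', hq']; push_cast; ring
  · omega

end Cfsg.Agent.CharTheory.BrauerSuzuki
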