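import Mathlib
import Cfsg.Agent.Lib.CharTheory.BrauerSuzuki.Exceptional
import Cfsg.Agent.Lib.Characters.Schur

/-!
The Brauer–Suzuki theorem for generalized quaternion Sylow 2-subgroups of order at least 16.
-/

set_option autoImplicit false
set_option linter.unusedSectionVars false

namespace Cfsg.Agent.CharTheory.BrauerSuzuki

open Cfsg.Agent.Characters Cfsg.Agent.CharTheory.IndBasic

variable {G : Type*} [Group G] [Finite G] {S : Sylow 2 G} {n : ℕ} {x y : G}
variable (h : Gen S n x y)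
include h

/-- The involution of `⟨x⟩`. -/
theorem orderOf_inv0 : orderOf (x ^ ((2 ^ (n + 2) : ℕ) : ℤ)) = 2 := by
  rw [orderOf_eq_prime_iff]
  constructor
  · rw [← zpow_natCast, ← zpow_mul, zpow_eq_one_iff h]
    push_cast
    exact ⟨1, by ring⟩
  · intro h1
    rw [zpow_eq_one_iff h] at h1
    have h2 : 2 ^ (n + 3) ∣ 2 ^ (n + 2) := by exact_mod_cast h1
    have := (Nat.pow_dvd_pow_iff_le_right (by norm_num)).1 h2
    omega

/-- No involution of the normalizer inverts the derived subgroup. -/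
theorem involution_mem_cgp {u : G} (hu : orderOf u = 2) (hN : u ∈ ngp x) : u ∈ cgp x := by
  obtain ⟨K, -, -, hNK, hKx, hcov⟩ := exists_complement h
  obtain ⟨c, hc, rfl | rfl⟩ := exists_mul_of_mem_ngp h hN
  · exact hc
  · exfalso
    obtain ⟨k, hk, i, rfl⟩ := hcov c hc
    have h2 : k * x ^ i * y * (k * x ^ i * y) = 1 := by rw [← sq, ← hu, pow_orderOf_eq_one]
    have hxy : x ^ i * y ∈ ngp x := mul_mem (cgp_le_ngp (zpow_mem (x_mem_cgp h) i)) (y_mem_ngp h)
    have hk' : k * (x ^ i * y * k * (x ^ i * y)⁻¹) ∈ K :=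
      mul_mem hk ((Subgroup.mem_normalizer_iff.1 (hNK hxy) k).1 hk)
    have hyy : y * y = x ^ i * y * (x ^ i * y) := by
      calc y * y = y * x ^ (-i) * x ^ i * y := by group
        _ = x ^ i * y * (x ^ i * y) := by rw [mul_conjX h, neg_neg]; group
    have h3 : k * (x ^ i * y * k * (x ^ i * y)⁻¹) * (y * y) = 1 := by
      rw [hyy]
      refine Eq.trans ?_ h2
      group
    have h4 : y * y ∈ K ⊓ Subgroup.zpowers x :=
      ⟨by rw [← inv_eq_of_mul_eq_one_right h3]; exact K.inv_mem hk', y_sq_mem h⟩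
    rw [hKx, Subgroup.mem_bot] at h4
    exact h.y_sq h4

variable [Fintype G]

theorem exists_kernels : ∃ χ₁ χ₂ : G → ℂ, ∃ h₁ : Cfsg.IsIrrCharacter G χ₁,
    ∃ h₂ : Cfsg.IsIrrCharacter G χ₂, χ₁ 1 = χ₂ 1 + 1 ∧
      (∀ u, orderOf u = 2 → u ∈ charKernel χ₁ (isCharacter_of_isIrr h₁)) ∧
      (∀ u, orderOf u = 2 → u ∈ charKernel χ₂ (isCharacter_of_isIrr h₂)) ∧
      ¬ (x ^ 2 ∈ charKernel χ₁ (isCharacter_of_isIrr h₁) ∧
        x ^ 2 ∈ charKernel χ₂ (isCharacter_of_isIrr h₂)) := by
  classical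
  obtain ⟨Φ, χ₁, χ₂, i₁, i₂, -, -, hdeg, hΦ, hΦx, hsupp⟩ := exists_exceptional h
  let z := x ^ ((2 ^ (n + 2) : ℕ) : ℤ)
  let I : Finset G := Finset.univ.filter fun u => orderOf u = 2
  have hI : ∀ {u}, u ∈ I ↔ orderOf u = 2 := by simp [I]
  have hz : z ∈ I := hI.2 (orderOf_inv0 h)
  have hconj : ∀ (χ : G → ℂ), Cfsg.IsCharacter G χ → ∀ u ∈ I, χ u = χ z := by
    intro χ hχ u hu
    obtain ⟨g, hg⟩ := exists_conj_involution h (hI.1 hu)
    rw [show z = g * u * g⁻¹ from hg.symm, char_isClassFunction hχ u g]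
  have key : ∀ χ : G → ℂ, Cfsg.IsIrrCharacter G χ →
      χ 1 * ∑ u ∈ I, ∑ v ∈ I, χ (u * v) = ((I.card : ℂ) * χ z) ^ 2 := by
    rintro χ ⟨m, ρ, hρ, rfl⟩
    let f : G → ℂ := fun g => if g ∈ I then 1 else 0
    have hf : Cfsg.IsClassFunction G f := fun g a => by
      have h1 : orderOf (a * g * a⁻¹) = orderOf g :=
        orderOf_injective (MulAut.conj a).toMonoidHom (MulAut.conj a).injective g
      simp only [f, hI, h1]
    obtain ⟨w, hw⟩ := schur_scalar ρ _ (sum_smul_comm ρ hf)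
    have hT : (∑ g : G, f g • ρ g) = ∑ u ∈ I, ρ u := by
      rw [← Finset.univ_inter I, ← Finset.sum_ite_mem]
      exact Finset.sum_congr rfl fun g _ => by simp [f, ite_smul]
    rw [hT] at hw
    have h1 : (I.card : ℂ) * ρ.character z = w * ρ.character 1 := by
      have h2 := congrArg (LinearMap.trace ℂ (Fin m → ℂ)) hw
      rw [map_sum, map_smul, smul_eq_mul] at h2
      rw [← nsmul_eq_mul, ← Finset.sum_const]
      refine (Finset.sum_congr rfl fun u hu => (hconj _ (isCharacter_character ρ) u hu).symm).trans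
        (h2.trans ?_)
      rw [Representation.character, ρ.map_one]
      rfl
    have h3 : ∑ u ∈ I, ∑ v ∈ I, ρ.character (u * v) = w ^ 2 * ρ.character 1 := by
      have h2 := congrArg (fun T : Module.End ℂ (Fin m → ℂ) =>
        LinearMap.trace ℂ (Fin m → ℂ) (T * T)) hw
      simp only [Finset.sum_mul_sum, map_sum, ← map_mul] at h2
      refine h2.trans ?_
      rw [show (w • LinearMap.id : Module.End ℂ (Fin m → ℂ)) = w • 1 from rfl, smul_mul_assoc,
        one_mul, smul_smul, map_smul, Representation.character, ρ.map_one, smul_eq_mul, sq]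
    rw [h3, h1]
    ring
  have hzero : ∀ u ∈ I, ∀ v ∈ I, Φ (u * v) = 0 := by
    intro u hu v hv
    by_contra hne
    obtain ⟨a, haC, had⟩ := hsupp _ hne
    let u' := a⁻¹ * u * a
    have hu' : orderOf u' = 2 := by
      rw [← hI.1 hu]
      have := orderOf_injective (MulAut.conj a⁻¹).toMonoidHom (MulAut.conj a⁻¹).injective u
      simpa [u'] using this
    have huu : u⁻¹ = u := inv_eq_of_mul_eq_one_right (by rw [← sq, ← hI.1 hu, pow_orderOf_eq_one])
    have hvv : v⁻¹ = v := inv_eq_of_mul_eq_one_right (by rw [← sq, ← hI.1 hv, pow_orderOf_eq_one])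
    have hinv : u' * (a⁻¹ * (u * v) * a) * u'⁻¹ = (a⁻¹ * (u * v) * a)⁻¹ := by
      calc u' * (a⁻¹ * (u * v) * a) * u'⁻¹ = a⁻¹ * (u * (u * v) * u⁻¹) * a := by
            simp only [u']; group
        _ = a⁻¹ * (v⁻¹ * u⁻¹) * a := by
            rw [show u * (u * v) = v by rw [← mul_assoc, show u * u = 1 from by
              rw [← sq, ← hI.1 hu, pow_orderOf_eq_one], one_mul], hvv, huu]
        _ = _ := by group
    have hN : u' ∈ ngp x := mem_ngp_of_conj h haC had (by rw [hinv]; exact inv_mem haC)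
    have hC := involution_mem_cgp h hu' hN
    obtain ⟨j, hj⟩ := Subgroup.mem_zpowers_iff.1
      (dgp_le_zpowers h haC had (Subgroup.mem_zpowers (x ^ 2)))
    have h5 : u' * x ^ 2 * u'⁻¹ = (x ^ 2)⁻¹ := by
      rw [← hj, ← conj_zpow, hinv, inv_zpow]
    rw [← mem_cgp.1 hC, mul_inv_cancel_right] at h5
    refine x_four_ne h ?_
    rw [show (4 : ℤ) = ((2 : ℕ) : ℤ) + ((2 : ℕ) : ℤ) by norm_num, zpow_add, zpow_natCast]
    exact mul_eq_one_iff_eq_inv.2 h5
  have hz12 : χ₁ z = χ₁ 1 ∧ χ₂ z = χ₂ 1 := by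
    obtain ⟨a, ha⟩ := char_one_nat (isCharacter_of_isIrr i₂)
    have ha0 : χ₂ 1 ≠ 0 := irr_one_ne_zero i₂
    have hb0 : χ₁ 1 ≠ 0 := irr_one_ne_zero i₁
    have hz2 : χ₁ z = χ₂ z + 1 := by
      have h1 := hΦ z
      have h0 : Φ z = 0 := by
        by_contra hne
        obtain ⟨b, -, hb⟩ := hsupp z hne
        have hord : orderOf (b⁻¹ * z * b) = 2 := by
          have := orderOf_injective (MulAut.conj b⁻¹).toMonoidHom (MulAut.conj b⁻¹).injective z
          simpa [hI.1 hz] using this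
        rw [hord, card_dgp h] at hb
        have h6 := Nat.le_of_dvd two_pos hb
        have h7 : 2 ^ 2 ≤ 2 ^ (n + 2) := Nat.pow_le_pow_right two_pos (by omega)
        omega
      rw [h0] at h1
      linear_combination h1
    have hsum : ∑ u ∈ I, ∑ v ∈ I, Φ (u * v) = 0 :=
      Finset.sum_eq_zero fun u hu => Finset.sum_eq_zero fun v hv => hzero u hu v hv
    simp only [hΦ, Finset.sum_add_distrib, Finset.sum_sub_distrib, Finset.sum_const, nsmul_eq_mul,
      mul_one] at hsum
    have hIne : (I.card : ℂ) ≠ 0 := Nat.cast_ne_zero.2 (Finset.card_ne_zero.2 ⟨z, hz⟩)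
    have k1 := key χ₁ i₁
    have k2 := key χ₂ i₂
    have hsq : (I.card : ℂ) ^ 2 * (χ₂ 1 - χ₂ z) ^ 2 = 0 := by
      rw [hz2] at k1
      linear_combination (χ₁ 1 * χ₂ 1) * hsum + χ₂ 1 * k1 - χ₁ 1 * k2 -
        (I.card : ℂ) ^ 2 * (χ₂ 1 + χ₂ z ^ 2) * hdeg
    have h8 : χ₂ 1 - χ₂ z = 0 :=
      pow_eq_zero_iff two_ne_zero |>.1 ((mul_eq_zero.1 hsq).resolve_left (pow_ne_zero _ hIne))
    exact ⟨by rw [hz2, hdeg]; linear_combination -h8, by linear_combination -h8⟩
  refine ⟨χ₁, χ₂, i₁, i₂, hdeg, fun u hu => ?_, fun u hu => ?_, ?_⟩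
  · show χ₁ u = χ₁ 1
    rw [hconj χ₁ (isCharacter_of_isIrr i₁) u (hI.2 hu), hz12.1]
  · show χ₂ u = χ₂ 1
    rw [hconj χ₂ (isCharacter_of_isIrr i₂) u (hI.2 hu), hz12.2]
  · rintro ⟨h1, h2⟩
    have h3 : Φ (x ^ 2) = 0 := by
      rw [hΦ, show χ₁ (x ^ 2) = χ₁ 1 from h1, show χ₂ (x ^ 2) = χ₂ 1 from h2, hdeg]
      ring
    rw [hΦx] at h3
    norm_num at h3

omit [Fintype G]

/-- A normal subgroup of even order with non-abelian quotient. -/
theorem exists_normal : ∃ M : Subgroup G, M.Normal ∧ Even (Nat.card M) ∧ ¬ commutator G ≤ M := by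
  classical
  haveI := Fintype.ofFinite G
  obtain ⟨χ₁, χ₂, i₁, i₂, hdeg, hk, -, -⟩ := exists_kernels h
  have hi := i₁
  obtain ⟨m, ρ, hρ, rfl⟩ := hi
  refine ⟨charKernel ρ.character (isCharacter_of_isIrr i₁), charKernel_normal _, ?_, fun hc => ?_⟩
  · rw [even_iff_two_dvd, ← orderOf_inv0 h]
    have hmem := hk _ (orderOf_inv0 h)
    exact Subgroup.orderOf_mk _ hmem ▸
      orderOf_dvd_natCard (⟨_, hmem⟩ : charKernel ρ.character (isCharacter_of_isIrr i₁))
  · haveI := hρ
    have hcomm : ∀ g : G, ∃ c : ℂ, ρ g = c • LinearMap.id := by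
      intro g
      refine schur_scalar ρ _ fun a v => ?_
      have h1 : g * a * g⁻¹ * a⁻¹ ∈ charKernel ρ.character (isCharacter_of_isIrr i₁) :=
        hc (Subgroup.commutator_mem_commutator (Subgroup.mem_top g) (Subgroup.mem_top a))
      have h2 : ρ (g * a * g⁻¹ * a⁻¹) = LinearMap.id := (rep_apply_eq_id_iff ρ _).2 h1
      show (ρ g * ρ a) v = (ρ a * ρ g) v
      rw [← map_mul, ← map_mul, show g * a = g * a * g⁻¹ * a⁻¹ * (a * g) by group, map_mul, h2]
      rfl
    have htop := ((isIrreducible_iff ρ).1 hρ).2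
    have hm : 2 ≤ m := by
      obtain ⟨b, hb⟩ := char_one_nat (isCharacter_of_isIrr i₂)
      have hb0 : b ≠ 0 := fun h0 => irr_one_ne_zero i₂ (by rw [hb, h0, Nat.cast_zero])
      rw [ρ.char_one, Module.finrank_fin_fun, hb] at hdeg
      have : m = b + 1 := by exact_mod_cast hdeg
      omega
    let v : Fin m → ℂ := Pi.single ⟨0, by omega⟩ 1
    rcases htop (ℂ ∙ v) (fun g w hw => by
      obtain ⟨c, hc⟩ := hcomm g
      rw [hc]
      exact Submodule.smul_mem _ c hw) with h1 | h1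
    · rw [Submodule.span_singleton_eq_bot] at h1
      have := congrFun h1 ⟨0, by omega⟩
      simp [v] at this
    · have h2 := finrank_span_singleton (K := ℂ) (v := v) (fun h0 => by
        have := congrFun h0 ⟨0, by omega⟩
        simp [v] at this)
      rw [h1, finrank_top, Module.finrank_fin_fun] at h2
      omega

/-- The subgroup generated by the involutions. -/
theorem isCyclic_sylow_closure (Q : Sylow 2 ↥(Subgroup.closure {g : G | orderOf g = 2})) :
    IsCyclic Q := by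
  classical
  haveI := Fintype.ofFinite G
  haveI : Fact (Nat.Prime 2) := ⟨Nat.prime_two⟩
  obtain ⟨χ₁, χ₂, i₁, i₂, -, hk1, hk2, hx⟩ := exists_kernels h
  let L := Subgroup.closure {g : G | orderOf g = 2}
  have hL : L ≤ charKernel χ₁ (isCharacter_of_isIrr i₁) ⊓ charKernel χ₂ (isCharacter_of_isIrr i₂) :=
    (Subgroup.closure_le _).2 fun g hg => ⟨hk1 g hg, hk2 g hg⟩
  have hLconj : ∀ {g : G}, g ∈ L → ∀ a : G, a * g * a⁻¹ ∈ L := fun {g} hg a => by
    induction hg using Subgroup.closure_induction with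
    | mem g hg =>
      refine Subgroup.subset_closure ?_
      exact (orderOf_injective (MulAut.conj a).toMonoidHom (MulAut.conj a).injective g).trans hg
    | one => simp
    | mul g₁ g₂ _ _ ih₁ ih₂ => simpa using mul_mem ih₁ ih₂
    | inv g₁ _ ih => simpa [mul_assoc] using inv_mem ih
  obtain ⟨P, hP⟩ := (Q.isPGroup'.map L.subtype).exists_le_sylow
  obtain ⟨g, hg⟩ := MulAction.exists_smul_eq G P S
  have hsub : ((Q : Subgroup L).map L.subtype).map (MulAut.conj g).toMonoidHom ≤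
      Subgroup.zpowers x := by
    rintro _ ⟨a, ha, rfl⟩
    have hs : g * a * g⁻¹ ∈ (S : Subgroup G) := hg ▸ ⟨a, hP ha, rfl⟩
    have hl : g * a * g⁻¹ ∈ L := hLconj (Subgroup.map_subtype_le _ ha) g
    obtain ⟨i, hi | hi⟩ := h.cover _ hs
    · exact Subgroup.mem_zpowers_iff.2 ⟨i, hi.symm⟩
    · exfalso
      rw [hi] at hl
      have h1 := mul_mem hl (inv_mem (hLconj hl x))
      have h2 : y * x ^ i * (x * (y * x ^ i) * x⁻¹)⁻¹ = x ^ (-2 : ℤ) := by
        calc y * x ^ i * (x * (y * x ^ i) * x⁻¹)⁻¹ = y * x ^ (1 : ℤ) * y⁻¹ * x ^ (-1 : ℤ) := by group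
          _ = x ^ (-2 : ℤ) := by rw [conjX h, ← zpow_add]; norm_num
      rw [h2] at h1
      have h3 := inv_mem h1
      rw [← zpow_neg, neg_neg, zpow_ofNat] at h3
      exact hx ⟨(hL h3).1, (hL h3).2⟩
  haveI : IsCyclic (((Q : Subgroup L).map L.subtype).map (MulAut.conj g).toMonoidHom) :=
    Subgroup.isCyclic_of_le hsub
  exact isCyclic_of_injective
    (((Q : Subgroup L).equivMapOfInjective L.subtype Subtype.val_injective).trans
      (((Q : Subgroup L).map L.subtype).equivMapOfInjective (MulAut.conj g).toMonoidHom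
        (MulAut.conj g).injective)).toMonoidHom (MulEquiv.injective _)

/-- Brauer–Suzuki. -/
theorem card_center (hO : ∀ N : Subgroup G, N.Normal → Odd (Nat.card N) → N = ⊥) :
    Nat.card (Subgroup.center G) = 2 := by
  classical
  haveI : Fact (Nat.Prime 2) := ⟨Nat.prime_two⟩
  let L := Subgroup.closure {g : G | orderOf g = 2}
  haveI hLn : L.Normal := by
    constructor
    intro g hg a
    induction hg using Subgroup.closure_induction with
    | mem g hg =>
      refine Subgroup.subset_closure ?_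
      exact (orderOf_injective (MulAut.conj a).toMonoidHom (MulAut.conj a).injective g).trans hg
    | one => simp
    | mul g₁ g₂ _ _ ih₁ ih₂ => simpa using mul_mem ih₁ ih₂
    | inv g₁ _ ih => simpa [mul_assoc] using inv_mem ih
  let z := x ^ ((2 ^ (n + 2) : ℕ) : ℤ)
  have hz : z ∈ L := Subgroup.subset_closure (orderOf_inv0 h)
  obtain ⟨Q⟩ : Nonempty (Sylow 2 L) := inferInstance
  have hcyc := isCyclic_sylow_closure h Q
  have hmin : (Nat.card L).minFac = 2 := by
    rw [Nat.minFac_eq_two_iff, ← orderOf_inv0 h]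
    exact Subgroup.orderOf_mk _ hz ▸ orderOf_dvd_natCard (⟨_, hz⟩ : L)
  let τ := MonoidHom.transferSylow Q (hcyc.normalizer_le_centralizer hmin)
  have hodd : ¬ 2 ∣ Nat.card τ.ker := MonoidHom.not_dvd_card_ker_transferSylow Q _
  have hchar : τ.ker.Characteristic := by
    rw [Subgroup.characteristic_iff_le_comap]
    intro φ a ha
    rw [Subgroup.mem_comap, MonoidHom.mem_ker, ← orderOf_eq_one_iff]
    obtain ⟨j, -, hj⟩ := (Nat.dvd_prime_pow Nat.prime_two).1
      ((orderOf_dvd_natCard (τ (φ a))).trans (dvd_of_eq (IsPGroup.iff_card.1 Q.isPGroup').choose_spec))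
    rcases j with - | j
    · exact hj.trans (pow_zero 2)
    · refine absurd ?_ hodd
      have h1 : 2 ∣ orderOf (φ a) :=
        (dvd_pow_self 2 (Nat.succ_ne_zero j)).trans (hj ▸ orderOf_map_dvd τ (φ a))
      rw [MulEquiv.orderOf_eq] at h1
      exact h1.trans (Subgroup.orderOf_mk _ ha ▸ orderOf_dvd_natCard (⟨a, ha⟩ : τ.ker))
  have hker : τ.ker = ⊥ := by
    have h1 : τ.ker.map L.subtype = ⊥ := hO _ inferInstance (by
      rw [← Nat.card_congr (τ.ker.equivMapOfInjective _ Subtype.val_injective).toEquiv]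
      exact Nat.not_even_iff_odd.1 fun he => hodd he.two_dvd)
    rwa [Subgroup.map_eq_bot_iff_of_injective _ Subtype.val_injective] at h1
  haveI : IsCyclic L := isCyclic_of_injective τ ((MonoidHom.ker_eq_bot_iff τ).1 hker)
  have huniq : ∀ u : G, orderOf u = 2 → u = z := by
    intro u hu
    have h1 : (Subgroup.zpowers u).subgroupOf L = (Subgroup.zpowers z).subgroupOf L := by
      refine subgroup_eq_of_card _ _ ?_
      rw [Nat.card_congr (Subgroup.subgroupOfEquivOfLe
        (Subgroup.zpowers_le.2 (Subgroup.subset_closure hu : u ∈ L))).toEquiv,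
        Nat.card_congr (Subgroup.subgroupOfEquivOfLe (Subgroup.zpowers_le.2 hz)).toEquiv,
        Nat.card_zpowers, Nat.card_zpowers, hu, orderOf_inv0 h]
    have h2 : (⟨u, Subgroup.subset_closure hu⟩ : L) ∈ (Subgroup.zpowers z).subgroupOf L := by
      rw [← h1]
      exact Subgroup.mem_zpowers u
    obtain ⟨j, hj⟩ := Subgroup.mem_zpowers_iff.1 (show u ∈ Subgroup.zpowers z from h2)
    have hz2 : z ^ (2 : ℤ) = 1 := by rw [zpow_ofNat, ← orderOf_inv0 h, pow_orderOf_eq_one]
    rcases Int.even_or_odd j with ⟨k, rfl⟩ | ⟨k, rfl⟩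
    · rw [← two_mul, zpow_mul, hz2, one_zpow] at hj
      rw [← hj, orderOf_one] at hu
      omega
    · rw [zpow_add, zpow_mul, hz2, one_zpow, one_mul, zpow_one] at hj
      exact hj.symm
  have hzc : z ∈ Subgroup.center G := Subgroup.mem_center_iff.2 fun g => by
    have h1 := huniq (g * z * g⁻¹)
      ((orderOf_injective (MulAut.conj g).toMonoidHom (MulAut.conj g).injective z).trans (orderOf_inv0 h))
    exact mul_inv_eq_iff_eq_mul.1 h1
  have hle : (Subgroup.center G : Subgroup G) ≤ Subgroup.zpowers z := by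
    intro c hc
    have hodd' : ∀ d ∈ Subgroup.center G, Odd (orderOf d) → d = 1 := by
      intro d hd ho
      have hn : (Subgroup.zpowers d).Normal :=
        ⟨fun a ha g => by
          rwa [show g * a * g⁻¹ = a by
            rw [Subgroup.mem_center_iff.1 ((Subgroup.zpowers_le.2 hd) ha) g, mul_inv_cancel_right]]⟩
      have h1 := hO _ hn (by rwa [Nat.card_zpowers])
      rwa [Subgroup.zpowers_eq_bot] at h1
    have hp : ∃ m, orderOf c = 2 ^ m := by
      obtain ⟨m, q, hq, he⟩ := Nat.exists_eq_pow_mul_and_not_dvd (orderOf_pos c).ne' 2 (by norm_num)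
      have h1 := hodd' (c ^ (2 ^ m)) (pow_mem hc _) (by
        rw [orderOf_pow' c (by positivity), he, Nat.gcd_eq_right (dvd_mul_right _ _),
          Nat.mul_div_cancel_left _ (by positivity)]
        exact Nat.not_even_iff_odd.1 fun hev => hq hev.two_dvd)
      obtain ⟨m', -, hm'⟩ := (Nat.dvd_prime_pow Nat.prime_two).1 (orderOf_dvd_of_pow_eq_one h1)
      exact ⟨m', hm'⟩
    obtain ⟨m, hm⟩ := hp
    obtain ⟨P, hP⟩ := (IsPGroup.of_card (n := m) (by rw [Nat.card_zpowers, hm]) :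
      IsPGroup 2 (Subgroup.zpowers c)).exists_le_sylow
    obtain ⟨g, hg⟩ := MulAction.exists_smul_eq G P S
    have hcS : c ∈ (S : Subgroup G) := by
      rw [← hg]
      exact ⟨c, hP (Subgroup.mem_zpowers c), by
        show g * c * g⁻¹ = c
        rw [Subgroup.mem_center_iff.1 hc g, mul_inv_cancel_right]⟩
    obtain ⟨i, rfl | rfl⟩ := h.cover c hcS
    · have h1 := conjX h i
      rw [Subgroup.mem_center_iff.1 hc y, mul_inv_cancel_right] at h1
      have h2 : x ^ (i + i) = 1 := by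
        rw [zpow_add]
        nth_rewrite 1 [h1]
        rw [← zpow_add, neg_add_cancel, zpow_zero]
      rw [zpow_eq_one_iff h] at h2
      obtain ⟨k, hk⟩ := h2
      refine Subgroup.mem_zpowers_iff.2 ⟨k, ?_⟩
      rw [← zpow_mul]
      congr 1
      push_cast at hk ⊢
      rw [pow_succ] at hk
      linarith
    · have hx2 : x ^ 2 * (y * x ^ i) = y * x ^ i * x ^ 2 := (Subgroup.mem_center_iff.1 hc (x ^ 2))
      exact absurd ((Subgroup.mul_mem_cancel_right _ (zpow_mem (x_mem_cgp h) i)).1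
        (mem_cgp.2 hx2)) (y_notMem_cgp h)
  have h1 : Subgroup.center G = Subgroup.zpowers z :=
    le_antisymm hle (Subgroup.zpowers_le.2 hzc)
  rw [h1, Nat.card_zpowers, orderOf_inv0 h]

end Cfsg.Agent.CharTheory.BrauerSuzuki
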